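import Groth.Agent.RegLoc6.Normal
import Mathlib.RingTheory.UniqueFactorizationDomain.Kaplansky
import Mathlib.RingTheory.DiscreteValuationRing.TFAE
import Mathlib.RingTheory.Length
import Mathlib.RingTheory.Nakayama

/-! # Intersection lengths in a regular local ring of dimension two -/

universe u

namespace Groth.Agent.RegDimTwo

open IsLocalRing

variable (A : Type u) [CommRing A] [IsRegularLocalRing A]

theorem ufd (hA : ringKrullDim A = 2) : IsDomain A ∧ UniqueFactorizationMonoid A := by
  haveI := RegLoc6.isDomain_of_isRegularLocalRing A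
  refine ⟨inferInstance, ?_⟩
  have hnf : ¬ IsField A := fun h => by
    rw [ringKrullDim_eq_zero_of_isField h] at hA
    exact two_ne_zero hA.symm
  obtain ⟨x, hx, hx2⟩ := SetLike.not_le_iff_exists.mp (RegLoc6.maximalIdeal_sq_ne hnf)
  haveI := RegLoc6.isLocalRing_quot hx
  haveI := (RegLoc6.isRegularLocalRing_quot_and hx hx2).1
  haveI := RegLoc6.isDomain_of_isRegularLocalRing (A ⧸ Ideal.span {x})
  have hx0 : x ≠ 0 := fun h => hx2 (h ▸ zero_mem _)
  have hxp : Prime x := by
    rw [← Ideal.span_singleton_prime hx0]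
    exact (Ideal.Quotient.isDomain_iff_prime _).1 inferInstance
  haveI : IsPrincipalIdealRing (A ⧸ Ideal.span {x}) := by
    refine ((tfae_of_isNoetherianRing_of_isLocalRing_of_isDomain (A ⧸ Ideal.span {x})).out 4 0 rfl rfl).1 ?_
    have h2 : (maximalIdeal A).spanFinrank = 2 := by
      have h1 := (isRegularLocalRing_iff A).mp inferInstance
      rw [hA] at h1
      exact_mod_cast h1
    have h1 : (maximalIdeal (A ⧸ Ideal.span {x})).spanFinrank ≤ 1 := by
      have := RegLoc6.spanFinrank_quot_le hx hx2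
      omega
    have hfg : (maximalIdeal (A ⧸ Ideal.span {x})).FG := IsNoetherian.noetherian _
    have hfin := Submodule.FG.finite_generators hfg
    rw [← Submodule.FG.generators_ncard hfg, Set.ncard_le_one hfin] at h1
    have h1 : (Submodule.generators (maximalIdeal (A ⧸ Ideal.span {x}))).Subsingleton := fun a ha b hb => h1 a ha b hb
    rcases h1.eq_empty_or_singleton with he | ⟨g, hg⟩
    · exact ⟨⟨0, by rw [← Submodule.span_generators (maximalIdeal (A ⧸ Ideal.span {x})), he, Submodule.span_empty, Submodule.span_singleton_eq_bot.2 rfl]⟩⟩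
    · exact ⟨⟨g, by rw [← Submodule.span_generators (maximalIdeal (A ⧸ Ideal.span {x})), hg]⟩⟩
  rw [UniqueFactorizationMonoid.iff_exists_prime_mem_of_isPrime]
  intro P hP hPp
  by_cases hxP : x ∈ P
  · exact ⟨x, hxP, hxp⟩
  obtain ⟨b, hb⟩ := IsPrincipalIdealRing.principal (P.map (Ideal.Quotient.mk (Ideal.span {x})))
  have hb' : b ∈ P.map (Ideal.Quotient.mk (Ideal.span {x})) := hb ▸ Submodule.mem_span_singleton_self b
  obtain ⟨p₀, hp₀, rfl⟩ := (Ideal.mem_map_iff_of_surjective _ Ideal.Quotient.mk_surjective).1 hb'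
  have hle : P ≤ Ideal.span {p₀} := by
    refine Submodule.le_of_le_smul_of_le_jacobson_bot (I := Ideal.span {x}) (IsNoetherian.noetherian P) ?_ ?_
    · rw [IsLocalRing.jacobson_eq_maximalIdeal ⊥ bot_ne_top, Ideal.span_singleton_le_iff_mem]
      exact hx
    · intro q hq
      have h := Ideal.mem_map_of_mem (Ideal.Quotient.mk (Ideal.span {x})) hq
      rw [hb, Ideal.submodule_span_eq, Ideal.mem_span_singleton] at h
      obtain ⟨c, hc⟩ := h
      obtain ⟨c, rfl⟩ := Ideal.Quotient.mk_surjective c
      rw [← map_mul, Ideal.Quotient.eq, Ideal.mem_span_singleton] at hc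
      obtain ⟨d, hd⟩ := hc
      have hd' : d ∈ P := (hPp.mem_or_mem (hd ▸ P.sub_mem hq (P.mul_mem_right c hp₀))).resolve_left hxP
      rw [show q = p₀ * c + x * d by rw [← hd]; ring]
      exact Submodule.add_mem_sup (Ideal.mul_mem_right _ _ (Ideal.mem_span_singleton_self p₀))
        (Submodule.smul_mem_smul (Ideal.mem_span_singleton_self x) hd')
  have hPe : P = Ideal.span {p₀} := le_antisymm hle ((Ideal.span_singleton_le_iff_mem _).2 hp₀)
  refine ⟨p₀, hp₀, ?_⟩
  rw [← Ideal.span_singleton_prime (fun h => hP (by rw [hPe, h, Ideal.span_singleton_zero])), ← hPe]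
  exact hPp

variable {A}

theorem length_mul (hA : ringKrullDim A = 2) (f g h : A) (hhg : IsRelPrime h g) :
    Module.length A (A ⧸ Ideal.span ({f * h, g} : Set A)) =
      Module.length A (A ⧸ Ideal.span ({f, g} : Set A)) + Module.length A (A ⧸ Ideal.span ({h, g} : Set A)) := by
  obtain ⟨_, _⟩ := ufd A hA
  let α : (A ⧸ Ideal.span ({f, g} : Set A)) →ₗ[A] (A ⧸ Ideal.span ({f * h, g} : Set A)) :=
    Submodule.mapQ _ _ (LinearMap.mulLeft A h) (by
      intro a ha
      obtain ⟨u, v, rfl⟩ := Ideal.mem_span_pair.1 ha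
      exact Ideal.mem_span_pair.2 ⟨u, h * v, by simp only [LinearMap.mulLeft_apply]; ring⟩)
  let β : (A ⧸ Ideal.span ({f * h, g} : Set A)) →ₗ[A] (A ⧸ Ideal.span ({h, g} : Set A)) :=
    Submodule.mapQ _ _ LinearMap.id (by
      intro a ha
      obtain ⟨u, v, rfl⟩ := Ideal.mem_span_pair.1 ha
      exact Ideal.mem_span_pair.2 ⟨u * f, v, by ring⟩)
  refine Module.length_eq_add_of_exact α β ?_ ?_ ?_
  · rw [injective_iff_map_eq_zero]
    intro a ha
    obtain ⟨a, rfl⟩ := Submodule.Quotient.mk_surjective _ a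
    rw [Submodule.mapQ_apply, Submodule.Quotient.mk_eq_zero, LinearMap.mulLeft_apply, Ideal.mem_span_pair] at ha
    obtain ⟨u, v, huv⟩ := ha
    obtain ⟨w, hw⟩ : g ∣ a - u * f := hhg.symm.dvd_of_dvd_mul_left ⟨v, by linear_combination -huv⟩
    exact (Submodule.Quotient.mk_eq_zero _).2 (Ideal.mem_span_pair.2 ⟨u, w, by linear_combination -hw⟩)
  · intro a
    obtain ⟨a, rfl⟩ := Submodule.Quotient.mk_surjective _ a
    exact ⟨Submodule.Quotient.mk a, rfl⟩
  · intro a
    constructor
    · intro ha
      obtain ⟨a, rfl⟩ := Submodule.Quotient.mk_surjective _ a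
      rw [Submodule.mapQ_apply, Submodule.Quotient.mk_eq_zero, LinearMap.id_apply, Ideal.mem_span_pair] at ha
      obtain ⟨u, v, huv⟩ := ha
      refine ⟨Submodule.Quotient.mk u, ?_⟩
      rw [Submodule.mapQ_apply, LinearMap.mulLeft_apply, Submodule.Quotient.eq, Ideal.mem_span_pair]
      exact ⟨0, -v, by linear_combination -huv⟩
    · rintro ⟨b, rfl⟩
      obtain ⟨b, rfl⟩ := Submodule.Quotient.mk_surjective _ b
      rw [Submodule.mapQ_apply, Submodule.mapQ_apply, Submodule.Quotient.mk_eq_zero, Ideal.mem_span_pair]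
      exact ⟨b, 0, by simp only [LinearMap.id_apply, LinearMap.mulLeft_apply]; ring⟩

theorem length_prod (hA : ringKrullDim A = 2) (g : A) :
    ∀ {n : ℕ} (f : Fin n → A), (∀ i, IsRelPrime g (f i)) →
      Module.length A (A ⧸ Ideal.span ({g, ∏ i, f i} : Set A)) = ∑ i, Module.length A (A ⧸ Ideal.span ({g, f i} : Set A)) := by
  intro n
  induction n with
  | zero =>
    intro f _
    rw [Fin.prod_univ_zero, Fin.sum_univ_zero, Module.length_eq_zero_iff, Submodule.Quotient.subsingleton_iff]
    exact (Ideal.eq_top_iff_one _).2 (Ideal.subset_span (Set.mem_insert_of_mem _ rfl))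
  | succ n ih =>
    intro f hf
    obtain ⟨_, _⟩ := ufd A hA
    rw [Fin.prod_univ_succ, Fin.sum_univ_succ, ← ih _ (fun i => hf i.succ), Set.pair_comm,
      length_mul hA _ g _ (IsRelPrime.prod_left fun i _ => (hf i.succ).symm), Set.pair_comm (f 0) g, Set.pair_comm (∏ i : Fin n, f i.succ) g]

theorem length_coker_pi (hA : ringKrullDim A = 2) : ∀ {n : ℕ} (f : Fin n → A), (∀ i j, i ≠ j → IsRelPrime (f i) (f j)) →
    Module.length A (((i : Fin n) → A ⧸ Ideal.span {f i}) ⧸ LinearMap.range (LinearMap.pi fun i => Submodule.mkQ (Ideal.span {f i}))) =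
      ∑ i : Fin n, ∑ j : Fin n, if i < j then Module.length A (A ⧸ Ideal.span ({f i, f j} : Set A)) else 0 := by
  intro n
  induction n with
  | zero =>
    intro f _
    rw [Fin.sum_univ_zero, Module.length_eq_zero_iff]
    infer_instance
  | succ n ih =>
    intro f hf
    obtain ⟨_, _⟩ := ufd A hA
    let f' : Fin n → A := fun i => f i.succ
    have hf' : ∀ i j, i ≠ j → IsRelPrime (f' i) (f' j) := fun i j h => hf _ _ (fun e => h (Fin.succ_injective _ e))
    have hR : ∑ i : Fin (n + 1), ∑ j : Fin (n + 1), (if i < j then Module.length A (A ⧸ Ideal.span ({f i, f j} : Set A)) else 0) =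
        (∑ i : Fin n, Module.length A (A ⧸ Ideal.span ({f 0, f' i} : Set A))) +
        ∑ i : Fin n, ∑ j : Fin n, if i < j then Module.length A (A ⧸ Ideal.span ({f' i, f' j} : Set A)) else 0 := by
      rw [Fin.sum_univ_succ]
      congr 1
      · rw [Fin.sum_univ_succ]; simp [f']
      · refine Finset.sum_congr rfl fun i _ => ?_
        rw [Fin.sum_univ_succ]; simp [f']
    rw [hR, ← length_prod hA (f 0) f' (fun i => hf _ _ (Fin.succ_ne_zero i).symm), ← ih f' hf']
    let T : ((i : Fin (n + 1)) → A ⧸ Ideal.span {f i}) →ₗ[A] ((i : Fin n) → A ⧸ Ideal.span {f' i}) :=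
      LinearMap.pi fun i => LinearMap.proj i.succ
    let β : _ →ₗ[A] _ := Submodule.mapQ (LinearMap.range (LinearMap.pi fun i : Fin (n + 1) => Submodule.mkQ (Ideal.span {f i})))
      (LinearMap.range (LinearMap.pi fun i : Fin n => Submodule.mkQ (Ideal.span {f' i}))) T (by
      rintro v ⟨a, rfl⟩; exact ⟨a, rfl⟩)
    let α : (A ⧸ Ideal.span ({f 0, ∏ i, f' i} : Set A)) →ₗ[A] _ :=
      Submodule.liftQ _ ((LinearMap.range (LinearMap.pi fun i : Fin (n + 1) => Submodule.mkQ (Ideal.span {f i}))).mkQ.comp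
        ((LinearMap.single A (fun i : Fin (n + 1) => A ⧸ Ideal.span {f i}) 0).comp (Submodule.mkQ (Ideal.span {f 0})))) (by
      intro a ha
      obtain ⟨u, v, rfl⟩ := Ideal.mem_span_pair.1 ha
      rw [LinearMap.mem_ker, LinearMap.comp_apply, LinearMap.comp_apply, Submodule.mkQ_apply, Submodule.Quotient.mk_eq_zero]
      refine ⟨v * ∏ i, f' i, funext fun i => ?_⟩
      refine Fin.cases ?_ (fun i => ?_) i
      · rw [LinearMap.pi_apply, LinearMap.single_apply, Pi.single_eq_same, Submodule.mkQ_apply, Submodule.mkQ_apply, Submodule.Quotient.eq,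
          Ideal.mem_span_singleton]
        exact ⟨-u, by ring⟩
      · rw [LinearMap.pi_apply, LinearMap.single_apply, Pi.single_eq_of_ne (Fin.succ_ne_zero i), Submodule.mkQ_apply, Submodule.Quotient.mk_eq_zero,
          Ideal.mem_span_singleton]
        exact dvd_mul_of_dvd_right (Finset.dvd_prod_of_mem f' (Finset.mem_univ i)) v)
    refine Module.length_eq_add_of_exact α β ?_ ?_ ?_
    · rw [injective_iff_map_eq_zero]
      intro a ha
      obtain ⟨a, rfl⟩ := Submodule.Quotient.mk_surjective _ a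
      rw [Submodule.liftQ_apply, LinearMap.comp_apply, LinearMap.comp_apply, Submodule.mkQ_apply, Submodule.Quotient.mk_eq_zero] at ha
      obtain ⟨b, hb⟩ := ha
      have h0 := congrFun hb 0
      rw [LinearMap.pi_apply, LinearMap.single_apply, Pi.single_eq_same, Submodule.mkQ_apply, Submodule.mkQ_apply, Submodule.Quotient.eq,
        Ideal.mem_span_singleton] at h0
      obtain ⟨u, hu⟩ := h0
      have hP : ∏ i, f' i ∣ b := Fintype.prod_dvd_of_isRelPrime (fun i j h => hf' i j h) fun i => by
        have h := congrFun hb i.succ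
        rw [LinearMap.pi_apply, LinearMap.single_apply, Pi.single_eq_of_ne (Fin.succ_ne_zero i), Submodule.mkQ_apply, Submodule.Quotient.mk_eq_zero,
          Ideal.mem_span_singleton] at h
        exact h
      obtain ⟨v, hv⟩ := hP
      exact (Submodule.Quotient.mk_eq_zero _).2 (Ideal.mem_span_pair.2 ⟨-u, v, by linear_combination -hv + hu⟩)
    · intro w
      obtain ⟨w, rfl⟩ := Submodule.Quotient.mk_surjective _ w
      exact ⟨Submodule.Quotient.mk (Fin.cons 0 w), by
        rw [Submodule.mapQ_apply]; congr 1⟩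
    · intro w
      constructor
      · intro hw
        obtain ⟨w, rfl⟩ := Submodule.Quotient.mk_surjective _ w
        rw [Submodule.mapQ_apply, Submodule.Quotient.mk_eq_zero] at hw
        obtain ⟨b, hb⟩ := hw
        obtain ⟨a, ha⟩ := Submodule.Quotient.mk_surjective _ (w 0 - Submodule.Quotient.mk b)
        refine ⟨Submodule.Quotient.mk a, ?_⟩
        rw [Submodule.liftQ_apply, LinearMap.comp_apply, LinearMap.comp_apply, Submodule.mkQ_apply, Submodule.Quotient.eq]
        refine ⟨-b, funext fun i => ?_⟩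
        refine Fin.cases ?_ (fun i => ?_) i
        · rw [LinearMap.pi_apply, Pi.sub_apply, LinearMap.single_apply, Pi.single_eq_same, Submodule.mkQ_apply, Submodule.mkQ_apply, ha,
            Submodule.Quotient.mk_neg]
          abel
        · rw [LinearMap.pi_apply, Pi.sub_apply, LinearMap.single_apply, Pi.single_eq_of_ne (Fin.succ_ne_zero i), zero_sub, Submodule.mkQ_apply,
            Submodule.Quotient.mk_neg]
          exact congrArg Neg.neg (congrFun hb i)
      · rintro ⟨a, rfl⟩
        obtain ⟨a, rfl⟩ := Submodule.Quotient.mk_surjective _ a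
        rw [Submodule.liftQ_apply, LinearMap.comp_apply, LinearMap.comp_apply, Submodule.mkQ_apply, Submodule.mapQ_apply, Submodule.Quotient.mk_eq_zero]
        refine ⟨0, funext fun i => ?_⟩
        simp [T, LinearMap.single_apply, Pi.single_eq_of_ne (Fin.succ_ne_zero i)]

end Groth.Agent.RegDimTwo
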